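import Mathlib
import Groth.Prelude.Def_CohDer

/-!
# Compact objects in pretriangulated categories
-/

universe v u w

namespace Groth.Agent.Compact

open CategoryTheory CategoryTheory.Limits CategoryTheory.Pretriangulated ZeroObject

section Preadd

variable {D : Type u} [Category.{v} D] [Preadditive D]

/-- Precomposition on a direct sum of Hom groups. -/
noncomputable def pre {K K' : D} (f : K' ⟶ K) {ι : Type v} (X : ι → D) :
    DirectSum ι (fun i => K ⟶ X i) →+ DirectSum ι (fun i => K' ⟶ X i) :=
  DirectSum.map fun i => Preadditive.leftComp (X i) f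

lemma pre_apply {K K' : D} (f : K' ⟶ K) {ι : Type v} (X : ι → D)
    (x : DirectSum ι (fun i => K ⟶ X i)) (i : ι) : pre f X x i = f ≫ x i :=
  DirectSum.map_apply (fun i => Preadditive.leftComp (X i) f) i x

lemma hom_of {K : D} {ι : Type v} [DecidableEq ι] (X : ι → D) [HasCoproduct X] (i : ι) (g : K ⟶ X i) :
    CohDer.homSumToHomCoprod K X (DirectSum.of _ i g) = g ≫ Sigma.ι X i := by
  classical
  unfold CohDer.homSumToHomCoprod
  convert DirectSum.toAddMonoid_of (β := fun i => K ⟶ X i) _ i g
  rfl

lemma hom_pre {K K' : D} (f : K' ⟶ K) {ι : Type v} (X : ι → D) [HasCoproduct X]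
    (x : DirectSum ι (fun i => K ⟶ X i)) :
    CohDer.homSumToHomCoprod K' X (pre f X x) = f ≫ CohDer.homSumToHomCoprod K X x := by
  classical
  induction x using DirectSum.induction_on with
  | zero => simp
  | of i g =>
    rw [pre, DirectSum.map_of, hom_of, hom_of]
    simp [Preadditive.leftComp]
  | add x y hx hy => simp [map_add, hx, hy, Preadditive.comp_add]

lemma exists_pre_eq {K K' K'' : D} (u : K'' ⟶ K') (v : K' ⟶ K) {ι : Type v} (X : ι → D)
    (h : ∀ (i : ι) (g : K' ⟶ X i), u ≫ g = 0 → ∃ g' : K ⟶ X i, g = v ≫ g')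
    (x : DirectSum ι (fun i => K' ⟶ X i)) (hx : pre u X x = 0) :
    ∃ y, x = pre v X y := by
  classical
  have hx' : ∀ i, u ≫ x i = 0 := fun i => by rw [← pre_apply, hx]; rfl
  choose g' hg' using fun i => h i (x i) (hx' i)
  refine ⟨DirectSum.mk _ (DFinsupp.support x) fun i => g' i.1, ?_⟩
  refine DirectSum.ext fun i => ?_
  rw [pre_apply]
  by_cases hi : i ∈ DFinsupp.support x
  · rw [DirectSum.mk_apply_of_mem hi]
    exact hg' i
  · rw [DirectSum.mk_apply_of_notMem hi]
    simp [DFinsupp.notMem_support_iff.mp hi]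

/-- Predicates on maps out of a compact object into a coproduct can be checked on summands. -/
lemma hom_induction [HasCoproducts.{v} D] {K : D} (hK : CohDer.IsCompactObject K) {ι : Type v}
    (X : ι → D) (p : (K ⟶ ∐ X) → Prop) (h0 : p 0) (hadd : ∀ a b, p a → p b → p (a + b))
    (hι : ∀ (i : ι) (g : K ⟶ X i), p (g ≫ Sigma.ι X i)) (g : K ⟶ ∐ X) : p g := by
  classical
  obtain ⟨x, rfl⟩ := (hK ι X).2 g
  induction x using DirectSum.induction_on with
  | zero => rw [map_zero]; exact h0
  | of i g => rw [hom_of]; exact hι i g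
  | add x y hx hy => rw [map_add]; exact hadd _ _ hx hy

lemma isCompact_of_retract [HasCoproducts.{v} D] {K K' : D} (r : Retract K' K)
    (hK : CohDer.IsCompactObject K) : CohDer.IsCompactObject K' := by
  intro ι X
  constructor
  · rw [injective_iff_map_eq_zero]
    intro x hx
    have h : pre r.r X x = 0 := (hK ι X).1 (by rw [hom_pre, hx, map_zero, comp_zero])
    refine DirectSum.ext fun i => ?_
    have := congrArg (fun y => r.i ≫ y i) h
    simpa [pre_apply] using this
  · intro g
    obtain ⟨y, hy⟩ := (hK ι X).2 (r.r ≫ g)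
    exact ⟨pre r.i X y, by rw [hom_pre, hy, r.retract_assoc]⟩

lemma isCompact_of_isZero [HasCoproducts.{v} D] {K : D} (hK : IsZero K) :
    CohDer.IsCompactObject K := by
  intro ι X
  exact ⟨fun x y _ => DirectSum.ext fun i => hK.eq_of_src _ _,
    fun g => ⟨0, hK.eq_of_src _ _⟩⟩

end Preadd

section Tri

variable {D : Type u} [Category.{v} D] [Preadditive D] [HasShift D ℤ]
  [∀ n : ℤ, (shiftFunctor D n).Additive] [HasCoproducts.{v} D]

omit [∀ n : ℤ, (shiftFunctor D n).Additive] in
lemma isCompact_of_adjunction {F G : D ⥤ D} (adj : F ⊣ G) [F.Additive] [G.Additive]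
    [∀ (ι : Type v), PreservesColimitsOfShape (Discrete ι) G] {K : D}
    (hK : CohDer.IsCompactObject K) : CohDer.IsCompactObject (F.obj K) := by
  classical
  intro ι X
  have key : ∀ x : DirectSum ι (fun i => F.obj K ⟶ X i),
      adj.homEquiv _ _ (CohDer.homSumToHomCoprod (F.obj K) X x) =
        CohDer.homSumToHomCoprod K (fun i => G.obj (X i))
          (DirectSum.map (fun i => (adj.homAddEquiv K (X i)).toAddMonoidHom) x) ≫
          sigmaComparison G X := by
    intro x
    induction x using DirectSum.induction_on with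
    | zero => simp [adj.homEquiv_unit]
    | of i g =>
      rw [DirectSum.map_of, hom_of, hom_of]
      simp [Adjunction.homAddEquiv, adj.homEquiv_naturality_right]
    | add x y hx hy =>
      simp only [map_add, Preadditive.add_comp]
      rw [← hx, ← hy]
      simp [adj.homEquiv_unit, G.map_add, Preadditive.comp_add]
  have hbij : Function.Bijective
      (DirectSum.map (fun i => (adj.homAddEquiv K (X i)).toAddMonoidHom)) :=
    ⟨(DirectSum.map_injective _).2 fun i => (adj.homAddEquiv K (X i)).injective,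
      (DirectSum.map_surjective _).2 fun i => (adj.homAddEquiv K (X i)).surjective⟩
  have := ((Iso.homToEquiv (asIso (sigmaComparison G X)) (Z := K)).bijective).comp
    ((hK ι fun i => G.obj (X i)).comp hbij)
  rw [← Function.Bijective.of_comp_iff' (adj.homEquiv _ _).bijective]
  convert this using 1
  funext x
  exact key x

lemma isCompact_shift {K : D} (hK : CohDer.IsCompactObject K) (n : ℤ) :
    CohDer.IsCompactObject (K⟦n⟧) :=
  isCompact_of_adjunction (F := shiftFunctor D n) (G := shiftFunctor D (-n)) (shiftEquiv D n).toAdjunction hK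

variable [HasZeroObject D] [Pretriangulated D]

lemma isCompact_ext₂ (T : Triangle D) (hT : T ∈ distinguishedTriangles)
    (h₁ : CohDer.IsCompactObject T.obj₁) (h₃ : CohDer.IsCompactObject T.obj₃) :
    CohDer.IsCompactObject T.obj₂ := by
  classical
  intro ι X
  constructor
  · rw [injective_iff_map_eq_zero]
    intro x hx
    have h : pre T.mor₁ X x = 0 := (h₁ ι X).1 (by rw [hom_pre, hx, map_zero, comp_zero])
    obtain ⟨z, rfl⟩ := exists_pre_eq _ T.mor₂ X (fun i g hg => T.yoneda_exact₂ hT g hg) x h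
    rw [hom_pre] at hx
    obtain ⟨t, ht⟩ := T.yoneda_exact₃ hT _ hx
    obtain ⟨s, rfl⟩ := (isCompact_shift h₁ 1 ι X).2 t
    rw [← hom_pre] at ht
    rw [(h₃ ι X).1 ht]
    refine DirectSum.ext fun i => ?_
    simp [pre_apply, comp_distTriang_mor_zero₂₃_assoc T hT]
  · intro g
    obtain ⟨a, ha⟩ := (h₁ ι X).2 (T.mor₁ ≫ g)
    let u : T.obj₃⟦(-1 : ℤ)⟧ ⟶ T.obj₁ := T.invRotate.mor₁
    have hu : u ≫ T.mor₁ = 0 := comp_distTriang_mor_zero₁₂ _ (inv_rot_of_distTriang _ hT)
    have hex : ∀ (i : ι) (g : T.obj₁ ⟶ X i), u ≫ g = 0 → ∃ g' : T.obj₂ ⟶ X i, g = T.mor₁ ≫ g' :=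
      fun i g hg => T.invRotate.yoneda_exact₂ (inv_rot_of_distTriang _ hT) g hg
    have h : pre u X a = 0 := (isCompact_shift h₃ (-1) ι X).1
      (by rw [hom_pre, map_zero, ha, reassoc_of% hu, zero_comp])
    obtain ⟨b, rfl⟩ := exists_pre_eq u T.mor₁ X hex a h
    rw [hom_pre] at ha
    obtain ⟨c, hc⟩ := T.yoneda_exact₂ hT (g - CohDer.homSumToHomCoprod _ X b)
      (by rw [Preadditive.comp_sub, ← ha, sub_self])
    obtain ⟨c', rfl⟩ := (h₃ ι X).2 c
    exact ⟨b + pre T.mor₂ X c', by rw [map_add, hom_pre, ← hc, add_sub_cancel]⟩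

instance : ObjectProperty.IsClosedUnderIsomorphisms (fun K : D => CohDer.IsCompactObject K) where
  of_iso e h := isCompact_of_retract (Retract.ofIso e.symm) h

instance : ObjectProperty.IsStableUnderRetracts (fun K : D => CohDer.IsCompactObject K) where
  of_retract r h := isCompact_of_retract r h

instance isTriangulated :
    ObjectProperty.IsTriangulated (fun K : D => CohDer.IsCompactObject K) where
  exists_zero := ⟨0, isZero_zero D, isCompact_of_isZero (isZero_zero D)⟩
  isStableUnderShiftBy n := ⟨fun _ h => isCompact_shift h n⟩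
  toIsTriangulatedClosed₂ := ObjectProperty.IsTriangulatedClosed₂.mk' isCompact_ext₂

end Tri

end Groth.Agent.Compact
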