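import Mathlib
import Groth.Prelude.Def_DerLim

/-!
# The short exact sequence `∐ F ⟶ ∐ F ⟶ colim F` for a sequence `F`
-/

universe v u

namespace Groth.Agent.SeqColim

open CategoryTheory CategoryTheory.Limits

variable {A : Type u} [Category.{v} A] [Abelian A] (K : ℕ → A) (f : ∀ n, K n ⟶ K (n + 1))

attribute [local instance] HasFiniteBiproducts.of_hasFiniteProducts

/-- Finite partial sums. -/
noncomputable abbrev part (N : ℕ) : A := ⨁ fun k : Fin N => K k

/-- Inclusion of the `k`th summand. -/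
noncomputable abbrev inc (N k : ℕ) (h : k < N) : K k ⟶ part K N :=
  biproduct.ι (fun i : Fin N => K i) ⟨k, h⟩

/-- Inclusion of partial sums. -/
noncomputable def jmap (N : ℕ) : part K N ⟶ part K (N + 1) :=
  biproduct.desc fun k => inc K (N + 1) k (k.2.trans N.lt_succ_self)

/-- `1 - shift` on partial sums. -/
noncomputable def smap (N : ℕ) : part K N ⟶ part K (N + 1) :=
  biproduct.desc fun k => inc K (N + 1) k (k.2.trans N.lt_succ_self) -
    f k ≫ inc K (N + 1) (k + 1) (Nat.succ_lt_succ k.2)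

variable {K f}

@[reassoc] lemma inc_jmap (N k : ℕ) (h : k < N) :
    inc K N k h ≫ jmap K N = inc K (N + 1) k (h.trans N.lt_succ_self) :=
  biproduct.ι_desc _ _

@[reassoc] lemma inc_smap (N k : ℕ) (h : k < N) :
    inc K N k h ≫ smap K f N = inc K (N + 1) k (h.trans N.lt_succ_self) -
      f k ≫ inc K (N + 1) (k + 1) (Nat.succ_lt_succ h) :=
  biproduct.ι_desc _ _

lemma smap_jmap (N : ℕ) : smap K f N ≫ jmap K (N + 1) = jmap K N ≫ smap K f (N + 1) := by
  apply biproduct.hom_ext'
  rintro ⟨k, hk⟩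
  change inc K N k hk ≫ _ = inc K N k hk ≫ _
  rw [inc_smap_assoc, inc_jmap_assoc, inc_smap, Preadditive.sub_comp, Category.assoc, inc_jmap,
    inc_jmap]

lemma mono_smap (N : ℕ) : Mono (smap K f N) := by
  apply Preadditive.mono_of_cancel_zero
  intro Z g hg
  have key : ∀ k (h : k < N), g ≫ biproduct.π (fun i : Fin N => K i) ⟨k, h⟩ = 0 := by
    intro k
    induction k using Nat.strong_induction_on with
    | _ k ih =>
      intro h
      have h' := congrArg (fun x => x ≫ biproduct.π (fun i : Fin (N + 1) => K i)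
        ⟨k, h.trans N.lt_succ_self⟩) hg
      simp only [Category.assoc, zero_comp] at h'
      rw [← h']
      have hd : g = ∑ i : Fin N, (g ≫ biproduct.π _ i) ≫ inc K N i i.2 := by
        conv_lhs => rw [← Category.comp_id g, ← biproduct.total, Preadditive.comp_sum]
        simp [Category.assoc]
      conv_rhs => rw [hd]
      rw [Preadditive.sum_comp, Finset.sum_eq_single ⟨k, h⟩]
      · simp only [Category.assoc, inc_smap_assoc, Preadditive.sub_comp,
          biproduct.ι_π_self]
        rw [biproduct.ι_π_ne _ (by simp [Fin.ext_iff])]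
        simp
      · intro i _ hi
        rcases lt_or_ge i.1 k with hik | hik
        · rw [ih i.1 hik i.2, zero_comp, zero_comp]
        · have hne : i.1 ≠ k := fun e => hi (Fin.ext e)
          simp only [Category.assoc, inc_smap_assoc, Preadditive.sub_comp]
          rw [biproduct.ι_π_ne _ (by simp [Fin.ext_iff]; omega),
            biproduct.ι_π_ne _ (by simp [Fin.ext_iff]; omega)]
          simp
      · simp
  exact biproduct.hom_ext _ _ fun i => by rw [key i.1 i.2, zero_comp]

variable (K) [HasCoproduct K]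

/-- Map of partial sums into the total sum. -/
noncomputable def θ (N : ℕ) : part K N ⟶ ∐ K := biproduct.desc fun k => Sigma.ι K k

@[reassoc] lemma inc_θ {K : ℕ → A} [HasCoproduct K] (N k : ℕ) (h : k < N) :
    inc K N k h ≫ θ K N = Sigma.ι K k :=
  biproduct.ι_desc _ _

lemma jmap_θ (N : ℕ) : jmap K N ≫ θ K (N + 1) = θ K N := by
  apply biproduct.hom_ext'
  rintro ⟨k, hk⟩
  change inc K N k hk ≫ _ = inc K N k hk ≫ _
  rw [inc_jmap_assoc, inc_θ, inc_θ]

lemma family_eq {W : A} (t : ∀ N, part K N ⟶ W) (ht : ∀ N, jmap K N ≫ t (N + 1) = t N) (N : ℕ) :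
    t N = θ K N ≫ Sigma.desc fun n => inc K (n + 1) n n.lt_succ_self ≫ t (n + 1) := by
  apply biproduct.hom_ext'
  rintro ⟨k, hk⟩
  change inc K N k hk ≫ _ = inc K N k hk ≫ _
  rw [inc_θ_assoc, Sigma.ι_desc]
  obtain ⟨d, rfl⟩ := Nat.exists_eq_add_of_le (Nat.succ_le_of_lt hk)
  induction d with
  | zero => rfl
  | succ d ih =>
    rw [← ih (by omega)]
    conv_rhs => rw [← ht]
    rw [inc_jmap_assoc]
    rfl

/-- The sequence of partial sums. -/
noncomputable def P : ℕ ⥤ A := Functor.ofSequence (jmap K)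

/-- The shifted sequence of partial sums. -/
noncomputable def Q : ℕ ⥤ A :=
  Functor.ofSequence (X := fun N => part K (N + 1)) fun N => jmap K (N + 1)

/-- The total sum is the colimit of the partial sums. -/
noncomputable def coconeP : Cocone (P K) :=
  Cocone.mk (∐ K) (NatTrans.ofSequence (G := (Functor.const ℕ).obj (∐ K)) (θ K) (fun n => by
    simp only [P, Functor.ofSequence_map_homOfLE_succ, Functor.const_obj_map, Category.comp_id]
    exact (jmap_θ K n).trans (Category.comp_id _).symm))

/-- The total sum is the colimit of the shifted partial sums. -/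
noncomputable def coconeQ : Cocone (Q K) :=
  Cocone.mk (∐ K) (NatTrans.ofSequence (G := (Functor.const ℕ).obj (∐ K)) (fun n => θ K (n + 1))
    (fun n => by
    simp only [Q, Functor.ofSequence_map_homOfLE_succ, Functor.const_obj_map, Category.comp_id]
    exact (jmap_θ K (n + 1)).trans (Category.comp_id _).symm))

lemma cocone_w_P (c : Cocone (P K)) (n : ℕ) : jmap K n ≫ c.ι.app (n + 1) = c.ι.app n := by
  have := c.w (homOfLE (Nat.le_add_right n 1))
  simp [P] at this
  exact this

lemma cocone_w_Q (c : Cocone (Q K)) (n : ℕ) : jmap K (n + 1) ≫ c.ι.app (n + 1) = c.ι.app n := by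
  have := c.w (homOfLE (Nat.le_add_right n 1))
  simp [Q] at this
  exact this

/-- `coconeP` is colimiting. -/
noncomputable def isColimitP : IsColimit (coconeP K) where
  desc c := Sigma.desc fun n => inc K (n + 1) n n.lt_succ_self ≫ c.ι.app (n + 1)
  fac c N := (family_eq K (fun N => c.ι.app N) (cocone_w_P K c) N).symm
  uniq c m hm := Sigma.hom_ext _ _ fun n => by
    rw [Sigma.ι_desc, ← hm]
    exact (inc_θ_assoc (n + 1) n n.lt_succ_self m).symm

/-- `coconeQ` is colimiting. -/
noncomputable def isColimitQ : IsColimit (coconeQ K) where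
  desc c := Sigma.desc fun n => inc K (n + 1) n n.lt_succ_self ≫ c.ι.app n
  fac c N := by
    have ht : ∀ N, jmap K N ≫ (jmap K (N + 1) ≫ c.ι.app (N + 1)) = jmap K N ≫ c.ι.app N :=
      fun N => by rw [cocone_w_Q]
    have := family_eq K (fun N => jmap K N ≫ c.ι.app N) ht (N + 1)
    simp only [cocone_w_Q] at this
    exact this.symm
  uniq c m hm := Sigma.hom_ext _ _ fun n => by
    rw [Sigma.ι_desc, ← hm]
    exact (inc_θ_assoc (n + 1) n n.lt_succ_self m).symm

variable (f)

lemma smap_θ (N : ℕ) :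
    smap K f N ≫ θ K (N + 1) = θ K N ≫ (𝟙 (∐ K) - DerLim.shiftMap K f) := by
  apply biproduct.hom_ext'
  rintro ⟨k, hk⟩
  change inc K N k hk ≫ _ = inc K N k hk ≫ _
  rw [inc_smap_assoc, inc_θ_assoc, Preadditive.sub_comp, Preadditive.comp_sub, Category.assoc,
    inc_θ, inc_θ, Category.comp_id, DerLim.shiftMap, Sigma.ι_desc]

lemma mono_one_sub_shift [HasColimitsOfShape ℕ A] [HasExactColimitsOfShape ℕ A] :
    Mono (𝟙 (∐ K) - DerLim.shiftMap K f) := by
  let α : P K ⟶ Q K := NatTrans.ofSequence (F := P K) (G := Q K) (fun N => smap K f N) (fun n => by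
    simp only [P, Q, Functor.ofSequence_map_homOfLE_succ]
    exact (smap_jmap n).symm)
  have : ∀ N, Mono (α.app N) := fun N => mono_smap N
  have : Mono α := NatTrans.mono_of_mono_app α
  have : PreservesFiniteLimits (colim (J := ℕ) (C := A)) :=
    HasExactColimitsOfShape.preservesFiniteLimits
  let eP : colimit (P K) ≅ ∐ K := colimit.isoColimitCocone ⟨_, isColimitP K⟩
  let eQ : colimit (Q K) ≅ ∐ K := colimit.isoColimitCocone ⟨_, isColimitQ K⟩
  have hP : ∀ N, colimit.ι (P K) N ≫ eP.hom = θ K N := fun N => colimit.isoColimitCocone_ι_hom _ N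
  have hQ : ∀ N, colimit.ι (Q K) N ≫ eQ.hom = θ K (N + 1) :=
    fun N => colimit.isoColimitCocone_ι_hom _ N
  have h : colim.map α ≫ eQ.hom = eP.hom ≫ (𝟙 (∐ K) - DerLim.shiftMap K f) := by
    apply colimit.hom_ext
    intro N
    rw [colimit.ι_map_assoc, ← Category.assoc (colimit.ι (P K) N), hP, hQ]
    exact smap_θ K f N
  have h' : 𝟙 (∐ K) - DerLim.shiftMap K f = eP.inv ≫ colim.map α ≫ eQ.hom := by
    rw [h, Iso.inv_hom_id_assoc]
  rw [h']
  infer_instance

/-- The sequence `∐ F ⟶ ∐ F ⟶ colim F ⟶ 0` is exact. -/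
noncomputable def isCokernel (F : ℕ ⥤ A) [HasCoproduct F.obj] [HasColimit F]
    (w : (𝟙 (∐ F.obj) - DerLim.shiftMap F.obj (fun n => F.map (homOfLE (Nat.le_succ n)))) ≫
        Sigma.desc (fun n => colimit.ι F n) = 0) :
    IsColimit (CokernelCofork.ofπ _ w) :=
  haveI hf : ∀ {W : A} (g : ∐ F.obj ⟶ W),
      (𝟙 (∐ F.obj) - DerLim.shiftMap F.obj (fun n => F.map (homOfLE (Nat.le_succ n)))) ≫ g = 0 →
      ∀ n : ℕ, F.map (homOfLE (Nat.le_add_right n 1)) ≫ Sigma.ι F.obj (n + 1) ≫ g =
        Sigma.ι F.obj n ≫ g := fun g hg n => by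
    have := congrArg (fun x => Sigma.ι F.obj n ≫ x) hg
    simp [DerLim.shiftMap, Preadditive.sub_comp, Preadditive.comp_sub, sub_eq_zero] at this
    exact this.symm
  CokernelCofork.IsColimit.ofπ _ _
    (fun g hg => colimit.desc F (Cocone.mk _
      (NatTrans.ofSequence (G := (Functor.const ℕ).obj _) (fun n => Sigma.ι F.obj n ≫ g)
        (fun n => by simpa using hf g hg n))))
    (fun g hg => Sigma.hom_ext _ _ fun n => by
      simp only [Sigma.ι_desc_assoc, colimit.ι_desc]
      rfl)
    (fun g hg m hm => colimit.hom_ext fun n => by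
      simp only [colimit.ι_desc]
      exact (by rw [← hm, Sigma.ι_desc_assoc] : colimit.ι F n ≫ m = Sigma.ι F.obj n ≫ g))

lemma desc_zero (F : ℕ ⥤ A) [HasCoproduct F.obj] [HasColimit F] :
    (𝟙 (∐ F.obj) - DerLim.shiftMap F.obj (fun n => F.map (homOfLE (Nat.le_succ n)))) ≫
      Sigma.desc (fun n => colimit.ι F n) = 0 := by
  apply Sigma.hom_ext
  intro n
  simp [DerLim.shiftMap, Preadditive.sub_comp, Preadditive.comp_sub, colimit.w, sub_eq_zero]

lemma shortExact (F : ℕ ⥤ A) [HasCoproduct F.obj] [HasColimitsOfShape ℕ A]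
    [HasExactColimitsOfShape ℕ A] :
    (ShortComplex.mk _ _ (desc_zero F)).ShortExact := by
  have := mono_one_sub_shift F.obj (fun n => F.map (homOfLE (Nat.le_succ n)))
  exact { exact := ShortComplex.exact_of_g_is_cokernel _ (isCokernel F (desc_zero F))
          mono_f := this
          epi_g := epi_of_isColimit_cofork (isCokernel F (desc_zero F)) }

end Groth.Agent.SeqColim
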