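import Mathlib
import Groth.Prelude.Def_DerLim
import Groth.Agent.Compact.SeqColim

/-!
# `1 - shift` and functors preserving countable sums
-/

universe v v' u u'

namespace Groth.Agent.SeqColim

open CategoryTheory CategoryTheory.Limits

variable {D : Type u} [Category.{v} D] [Preadditive D] {B : Type u'} [Category.{v'} B] [Preadditive B]
  (G : D ⥤ B) [G.Additive] (K : ℕ → D) (f : ∀ n, K n ⟶ K (n + 1))
  [HasCoproduct K] [HasCoproduct fun n => G.obj (K n)]

lemma one_sub_shift_comparison :
    (𝟙 (∐ fun n => G.obj (K n)) - DerLim.shiftMap (fun n => G.obj (K n)) (fun n => G.map (f n))) ≫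
        sigmaComparison G K =
      sigmaComparison G K ≫ G.map (𝟙 (∐ K) - DerLim.shiftMap K f) := by
  apply Sigma.hom_ext
  intro n
  simp [DerLim.shiftMap, Preadditive.sub_comp, Preadditive.comp_sub, ← Functor.map_comp]

lemma mono_map_one_sub_shift {A : Type u'} [Category.{v'} A] [Abelian A]
    [HasColimitsOfShape ℕ A] [HasExactColimitsOfShape ℕ A] (G : D ⥤ A) [G.Additive]
    (K : ℕ → D) (f : ∀ n, K n ⟶ K (n + 1)) [HasCoproduct K]
    [PreservesColimit (Discrete.functor K) G] :
    Mono (G.map (𝟙 (∐ K) - DerLim.shiftMap K f)) := by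
  haveI : HasCoproduct fun n => G.obj (K n) :=
    ⟨⟨⟨_, isColimitCofanMkObjOfIsColimit G _ _ (coproductIsCoproduct K)⟩⟩⟩
  haveI := mono_one_sub_shift (fun n => G.obj (K n)) (fun n => G.map (f n))
  have h := one_sub_shift_comparison G K f
  rw [← IsIso.inv_hom_id_assoc (sigmaComparison G K) (G.map _), ← h]
  infer_instance

end Groth.Agent.SeqColim
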